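import Cfsg.Agent.Lib.SuzukiOvoid.Action
import Cfsg.Agent.Lib.SuzukiGroup.Tori

/-!
# Centralisers in the ovoid-stabiliser form of the Suzuki groups
-/

set_option autoImplicit false

open scoped MatrixGroups Matrix

namespace CfsgLib.SuzukiOvoid

open CfsgLib.SuzukiGroup

theorem centralizer_map_equiv {G H : Type*} [Group G] [Group H] (ψ : G ≃* H) (g : G) :
    (Subgroup.centralizer {g}).map ψ.toMonoidHom = Subgroup.centralizer {ψ g} := by
  ext y
  obtain ⟨x, rfl⟩ := ψ.surjective y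
  rw [Subgroup.mem_map_equiv, MulEquiv.symm_apply_apply, Subgroup.mem_centralizer_singleton_iff,
    Subgroup.mem_centralizer_singleton_iff, ← map_mul, ← map_mul, EmbeddingLike.apply_eq_iff_eq]

variable {F : Type*} [Field F] [Fintype F] {m : ℕ}

/-- The three torus orders. -/
def torusOrders (m : ℕ) : Set ℕ :=
  {2 ^ (2 * m + 1) - 1, 2 ^ (2 * m + 1) + 2 ^ (m + 1) + 1, 2 ^ (2 * m + 1) - 2 ^ (m + 1) + 1}

theorem torusOrders_odd (hm : 1 ≤ m) {k : ℕ} (hk : k ∈ torusOrders m) : Odd k ∧ 1 < k := by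
  have h2 : 2 ^ (m + 1) < 2 ^ (2 * m + 1) := Nat.pow_lt_pow_right one_lt_two (by omega)
  have he : Even (2 ^ (2 * m + 1)) := Nat.even_pow.2 ⟨even_two, by omega⟩
  have hr : Even (2 ^ (m + 1)) := Nat.even_pow.2 ⟨even_two, by omega⟩
  have h3 : 2 ≤ 2 ^ (m + 1) := Nat.le_self_pow (by omega) 2
  simp only [torusOrders, Set.mem_insert_iff, Set.mem_singleton_iff] at hk
  rw [Nat.even_iff] at he hr
  rw [Nat.odd_iff]
  rcases hk with rfl | rfl | rfl <;> omega

theorem torusOrders_coprime (hm : 1 ≤ m) (hF : Fintype.card F = 2 ^ (2 * m + 1)) {j k : ℕ}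
    (hj : j ∈ torusOrders m) (hk : k ∈ torusOrders m) (hne : j ≠ k) : j.Coprime k := by
  obtain ⟨_, ⟨-⟩⟩ := CfsgLib.SuzukiGroup.exists_params hF
  obtain ⟨hA, hB⟩ := q_sub_one_coprime (F := F) hF hm
  have hAB := toA_coprime_toB m
  rw [hF] at hA hB
  unfold toA at hA hAB
  unfold toB at hB hAB
  simp only [torusOrders, Set.mem_insert_iff, Set.mem_singleton_iff] at hj hk
  rcases hj with rfl | rfl | rfl <;> rcases hk with rfl | rfl | rfl
  exacts [absurd rfl hne, hA, hB, hA.symm, absurd rfl hne, hAB, hB.symm, hAB.symm, absurd rfl hne]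

/-- Every non-trivial element is a `2`-element of order at most `4`, or has a cyclic centraliser of
one of the three torus orders. -/
theorem element_cases (hm : 1 ≤ m) (hF : Fintype.card F = 2 ^ (2 * m + 1)) {g : ↥(Cfsg.Sz F m)} (h1 : g ≠ 1) :
    orderOf g ∣ 4 ∨ (IsCyclic ↥(Subgroup.centralizer {g}) ∧
      Nat.card ↥(Subgroup.centralizer {g}) ∈ torusOrders m) := by
  obtain ⟨_, ⟨P⟩⟩ := CfsgLib.SuzukiGroup.exists_params hF
  set ψ := ovoidEquiv hm hF P
  obtain ⟨x, rfl⟩ := ψ.surjective g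
  have hx : x ≠ 1 := fun h => h1 (by rw [h, map_one])
  rcases CfsgLib.SuzukiGroup.element_cases P hF hm hx with h | ⟨hc, h⟩
  · exact Or.inl (by rwa [ψ.orderOf_eq])
  · refine Or.inr ⟨?_, ?_⟩
    · haveI := hc
      rw [← centralizer_map_equiv]
      exact isCyclic_of_surjective (ψ.subgroupMap _).toMonoidHom (MulEquiv.surjective _)
    · rw [← centralizer_map_equiv, Subgroup.card_map_of_injective (f := ψ.toMonoidHom) ψ.injective]
      simp only [torusOrders, Set.mem_insert_iff, Set.mem_singleton_iff]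
      rw [hF] at h
      exact h

theorem odd_of_cyclic_case (hm : 1 ≤ m) {g : ↥(Cfsg.Sz F m)}
    (h : Nat.card ↥(Subgroup.centralizer {g}) ∈ torusOrders m) : Odd (orderOf g) := by
  obtain ⟨d, hd⟩ := Subgroup.orderOf_dvd_natCard (Subgroup.centralizer {g})
    (Subgroup.mem_centralizer_singleton_iff.2 (rfl : g * g = g * g))
  exact Odd.of_dvd_nat (torusOrders_odd hm h).1 ⟨d, hd⟩

/-- A non-trivial element lies in at most one Sylow `2`-subgroup, and then so does its centraliser. -/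
theorem centralizer_le_sylow (hm : 1 ≤ m) (hF : Fintype.card F = 2 ^ (2 * m + 1)) {g : ↥(Cfsg.Sz F m)}
    (h1 : g ≠ 1) (S : Sylow 2 ↥(Cfsg.Sz F m)) (hg : g ∈ (S : Subgroup ↥(Cfsg.Sz F m))) :
    Subgroup.centralizer {g} ≤ (S : Subgroup ↥(Cfsg.Sz F m)) ∧
      ∀ S' : Sylow 2 ↥(Cfsg.Sz F m), g ∈ (S' : Subgroup ↥(Cfsg.Sz F m)) → S' = S := by
  obtain ⟨_, ⟨P⟩⟩ := CfsgLib.SuzukiGroup.exists_params hF
  obtain ⟨c, hc⟩ := exists_conj_map_unip hm hF P S
  let ψ : ↥(Cfsg.Lie.Sz F (2 ^ (m + 1))) ≃* ↥(Cfsg.Sz F m) := (ovoidEquiv hm hF P).trans (MulAut.conj c)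
  have hc' : (S : Subgroup ↥(Cfsg.Sz F m)) = (unip P).map ψ.toMonoidHom := hc
  obtain ⟨x, rfl⟩ := ψ.surjective g
  have hx : x ≠ 1 := fun h => h1 (by rw [h, map_one])
  rw [hc', Subgroup.mem_map_equiv, MulEquiv.symm_apply_apply] at hg
  refine ⟨?_, fun S' hS' => ?_⟩
  · rw [hc', ← centralizer_map_equiv]
    exact Subgroup.map_mono (centralizer_le_unip P hg hx)
  · obtain ⟨d, hd⟩ := exists_conj_map_unip hm hF P S'
    obtain ⟨y, hy, hyx⟩ := hd ▸ hS'
    set k := ψ.symm (d * c⁻¹) with hk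
    have hkey : ∀ z, ((MulAut.conj d).toMonoidHom.comp (ovoidEquiv hm hF P).toMonoidHom) z = ψ (k * z * k⁻¹) := by
      intro z
      rw [map_mul, map_mul, map_inv, hk, MulEquiv.apply_symm_apply]
      simp [ψ, mul_assoc]
    have e : k * y * k⁻¹ = x := ψ.injective (by rw [← hkey, hyx])
    have hkB : k ∈ borel (F := F) (e := 2 ^ (m + 1)) :=
      conj_unip_ne P hy (fun h => hx (by rw [← e, h]; group)) (e ▸ hg)
    apply Sylow.ext
    show (S' : Subgroup ↥(Cfsg.Sz F m)) = (S : Subgroup ↥(Cfsg.Sz F m))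
    rw [hd, hc']
    have hn := borel_le_normalizer P hkB
    ext z
    constructor
    · rintro ⟨w, hw, rfl⟩
      exact ⟨k * w * k⁻¹, (Subgroup.mem_normalizer_iff.1 hn w).1 hw, (hkey w).symm⟩
    · rintro ⟨w, hw, rfl⟩
      refine ⟨k⁻¹ * w * k⁻¹⁻¹, (Subgroup.mem_normalizer_iff.1 (inv_mem hn) w).1 hw, ?_⟩
      rw [hkey]
      show ψ _ = ψ w
      congr 1
      group

end CfsgLib.SuzukiOvoid
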