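import Cfsg.Agent.Lib.SuzukiGroup.Subgroups
import Cfsg.Agent.Lib.SuzukiOvoid.Tori
import Mathlib.GroupTheory.Solvable
import Mathlib.FieldTheory.Finite.GaloisField

/-!
# Subfield subgroups and solvable subgroups of the Suzuki groups
-/

set_option autoImplicit false

open scoped MatrixGroups Matrix

namespace CfsgLib.SuzukiGroup

open Cfsg.Lie

section fields

variable {F K : Type*} [Field F] [Fintype F] [CharP F 2] [Field K] [Fintype K] [CharP K 2] {e : ℕ}

/-- Transport along an isomorphism of fields. -/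
noncomputable def szEquiv (σ : K ≃+* F) (P : Params F e) (P' : Params K e) : ↥(Sz K e) ≃* ↥(Sz F e) :=
  have hθ : ∀ x, σ (P'.θ x) = P.θ (σ x) := fun x => by rw [P'.pow_eq, P.pow_eq, map_pow]
  have hrel : ∀ A : Matrix (Fin 4) (Fin 4) K, Rel P'.θ A → Rel P.θ (A.map σ) := by
    intro A hA
    refine (rel_iff _).2 ⟨fun i j => ?_, fun p r => ?_⟩
    · have h := congrArg σ (hA.1 i j)
      simp only [altForm4, map_add, map_mul] at h
      simp only [altForm4, Matrix.map_apply]
      rw [h]; split_ifs <;> simp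
    · have h := congrArg σ (((rel_iff _).1 hA).2 p r)
      rw [hθ] at h
      simp only [star4, Matrix.of_apply, map_sub, map_mul] at h
      simpa [star4] using h
  have hrel' : ∀ A : Matrix (Fin 4) (Fin 4) F, Rel P.θ A → Rel P'.θ (A.map σ.symm) := by
    intro A hA
    have hθ' : ∀ x, σ.symm (P.θ x) = P'.θ (σ.symm x) := fun x => by rw [P'.pow_eq, P.pow_eq, map_pow]
    refine (rel_iff _).2 ⟨fun i j => ?_, fun p r => ?_⟩
    · have h := congrArg σ.symm (hA.1 i j)
      simp only [altForm4, map_add, map_mul] at h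
      simp only [altForm4, Matrix.map_apply]
      rw [h]; split_ifs <;> simp
    · have h := congrArg σ.symm (((rel_iff _).1 hA).2 p r)
      rw [hθ'] at h
      simp only [star4, Matrix.of_apply, map_sub, map_mul] at h
      simpa [star4] using h
  { toFun := fun g => ⟨Matrix.GeneralLinearGroup.map σ.toRingHom g.1,
      (mem_iff P _).2 (hrel _ ((mem_iff P' _).1 g.2))⟩
    invFun := fun g => ⟨Matrix.GeneralLinearGroup.map σ.symm.toRingHom g.1,
      (mem_iff P' _).2 (hrel' _ ((mem_iff P _).1 g.2))⟩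
    left_inv := fun g => Subtype.ext (Units.ext (by ext i j; exact σ.symm_apply_apply _))
    right_inv := fun g => Subtype.ext (Units.ext (by ext i j; exact σ.apply_symm_apply _))
    map_mul' := fun g h => Subtype.ext (map_mul _ _ _) }

end fields

variable {F : Type*} [Field F]

/-- `Sz` depends only on the function `x ↦ x ^ e`. -/
theorem sz_congr {e e' : ℕ} (h : ∀ x : F, x ^ e = x ^ e') : Sz F e = Sz F e' := by
  simp only [Sz, funext h]

variable [Fintype F]

theorem mem_subfield_iff (L : Subfield F) {l : ℕ} (hl : Nat.card ↥L = 2 ^ l) (x : F) :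
    x ∈ L ↔ x ^ (2 ^ l) = x := by
  classical
  have hpow : ∀ y ∈ L, y ^ (2 ^ l) = y := by
    intro y hy
    letI : Fintype ↥L := Fintype.ofFinite _
    have := congrArg Subtype.val (FiniteField.pow_card (⟨y, hy⟩ : ↥L))
    rwa [← Nat.card_eq_fintype_card, hl] at this
  refine ⟨hpow x, fun hx => ?_⟩
  by_contra hxL
  set p : Polynomial F := Polynomial.X ^ (2 ^ l) - Polynomial.X with hp
  have hl0 : 1 < 2 ^ l := hl ▸ Finite.one_lt_card
  have hdeg : p.natDegree = 2 ^ l := FiniteField.X_pow_card_sub_X_natDegree_eq F hl0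
  have hp0 : p ≠ 0 := fun e => by rw [e, Polynomial.natDegree_zero] at hdeg; omega
  have hsub : insert x (L : Set F).toFinset ⊆ p.roots.toFinset := by
    intro y hy
    rw [Multiset.mem_toFinset, Polynomial.mem_roots hp0, Polynomial.IsRoot, hp, Polynomial.eval_sub,
      Polynomial.eval_pow, Polynomial.eval_X, sub_eq_zero]
    rcases Finset.mem_insert.1 hy with rfl | hy
    · exact hx
    · exact hpow y (Set.mem_toFinset.1 hy)
  have h1 := (Finset.card_le_card hsub).trans ((Multiset.toFinset_card_le _).trans p.card_roots')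
  rw [Finset.card_insert_of_notMem (by simpa using hxL), hdeg, Set.toFinset_card,
    ← Nat.card_eq_fintype_card] at h1
  rw [show Nat.card ↥(L : Set F) = Nat.card ↥L from rfl, hl] at h1
  omega

theorem subfield_eq_of_card {L L' : Subfield F} {l : ℕ} (h : Nat.card ↥L = 2 ^ l)
    (h' : Nat.card ↥L' = 2 ^ l) : L = L' :=
  SetLike.ext fun x => by rw [mem_subfield_iff L h, mem_subfield_iff L' h']

theorem exists_subfield {n l : ℕ} (hF : Fintype.card F = 2 ^ n) (hn : n ≠ 0) (hl : l ≠ 0) (hd : l ∣ n) :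
    ∃ L : Subfield F, Nat.card ↥L = 2 ^ l := by
  classical
  obtain ⟨p, hp⟩ := CharP.exists F
  haveI := hp
  obtain ⟨a, hprime, ha⟩ := FiniteField.card F p
  have hp2 : p = 2 := (Nat.prime_dvd_prime_iff_eq hprime Nat.prime_two).1
    (hprime.dvd_of_dvd_pow (n := n) (hF ▸ ha ▸ dvd_pow_self p a.2.ne'))
  subst hp2
  haveI : Fact (Nat.Prime 2) := ⟨Nat.prime_two⟩
  letI : Algebra (ZMod 2) F := ZMod.algebra F 2
  obtain ⟨f⟩ : Nonempty (GaloisField 2 l →ₐ[ZMod 2] F) := by
    refine FiniteField.nonempty_algHom_iff_finrank_dvd.2 ?_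
    have hFr : Module.finrank (ZMod 2) F = n := by
      have h := Module.natCard_eq_pow_finrank (K := ZMod 2) (V := F)
      rw [Nat.card_eq_fintype_card, hF, Nat.card_zmod] at h
      exact (Nat.pow_right_injective le_rfl h).symm
    rwa [GaloisField.finrank 2 hl, hFr]
  refine ⟨f.toRingHom.fieldRange, ?_⟩
  rw [show Nat.card ↥f.toRingHom.fieldRange = Nat.card (GaloisField 2 l) from
    (Nat.card_congr (Equiv.ofInjective _ f.toRingHom.injective)).symm, GaloisField.card 2 l hl]

variable {m : ℕ}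

/-- The subfield group is a Suzuki group over any field of the right size. -/
theorem nonempty_subGroup_equiv [CharP F 2] (P : Params F (2 ^ (m + 1)))
    (L : Subfield F) {k : ℕ} (hk : 1 ≤ k) (hL : Nat.card ↥L = 2 ^ (2 * k + 1)) (hd : 2 * k + 1 ∣ 2 * m + 1)
    {K : Type*} [Field K] [Fintype K] (hK : Fintype.card K = 2 ^ (2 * k + 1)) :
    Nonempty (↥(subGroup (e := 2 ^ (m + 1)) L) ≃* ↥(Cfsg.Sz K k)) := by
  letI : Fintype ↥L := Fintype.ofFinite _
  obtain ⟨_, ⟨PK⟩⟩ := exists_params hK
  obtain ⟨σ⟩ : Nonempty (↥L ≃+* K) :=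
    ⟨FiniteField.ringEquivOfCardEq (by rw [← Nat.card_eq_fintype_card (α := ↥L), hL, hK])⟩
  have hpow : ∀ x : ↥L, x ^ (2 ^ (m + 1)) = x ^ (2 ^ (k + 1)) := by
    intro x
    obtain ⟨c, hc⟩ := hd
    obtain ⟨i, rfl⟩ : Odd c := Odd.of_dvd_nat ⟨m, rfl⟩ ⟨2 * k + 1, by rw [hc]; ring⟩
    have e : m + 1 = (k + 1) + (2 * k + 1) * i := by nlinarith
    rw [e, pow_add, pow_mul, pow_mul, ← hL, Nat.card_eq_fintype_card, FiniteField.pow_card_pow]
  have PL : Params ↥L (2 ^ (k + 1)) :=
    ⟨(restrictParams P L).θ, fun x => by rw [(restrictParams P L).pow_eq, hpow], (restrictParams P L).sq⟩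
  exact ⟨((subGroupEquiv P L).symm.trans (MulEquiv.subgroupCongr (sz_congr hpow))).trans
    ((szEquiv σ PK PL).trans (CfsgLib.SuzukiOvoid.ovoidEquiv hk hK PK))⟩

variable [CharP F 2] (P : Params F (2 ^ (m + 1))) (hF : Fintype.card F = 2 ^ (2 * m + 1)) (hm : 1 ≤ m)

include P hF hm in
theorem not_solvable_sz : ¬ Group.IsSolvable ↥(Sz F (2 ^ (m + 1))) := by
  intro h
  have hq : 2 < Fintype.card F := by have := eight_le hF hm; omega
  haveI := isSimple P hq
  exact (IsSolvable.commutator_lt_top_of_nontrivial ↥(Sz F (2 ^ (m + 1)))).ne (commutator_eq_top P hq)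

include P in
theorem borel_solvable : Group.IsSolvable ↥(borel (F := F) (e := 2 ^ (m + 1))) := by
  haveI : Fact (Nat.Prime 2) := ⟨Nat.prime_two⟩
  haveI : Group.IsNilpotent ↥(unip P) := by
    rw [← coe_sylowTwo P]; exact (sylowTwo P).2.isNilpotent
  let g : ↥(borel (F := F) (e := 2 ^ (m + 1))) →* F :=
    { toFun := fun x => mat (x : ↥(Sz F (2 ^ (m + 1)))) 0 0
      map_one' := by simp
      map_mul' := fun x y => by
        obtain ⟨h1, h2, h3⟩ := mem_borel.1 y.2
        simp [Matrix.mul_apply, Fin.sum_univ_four, h1, h2, h3] }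
  refine Group.isSolvable_of_ker_le_range (Subgroup.inclusion (unip_le_borel P)) g.toHomUnits ?_
  intro x hx
  have hx' : g x = 1 := congrArg Units.val (MonoidHom.mem_ker.1 hx)
  obtain ⟨a, b, z, hz⟩ := borel_form P x.2
  have hz1 : z = 1 := Units.ext (by
    have := hx'
    simp only [g, MonoidHom.coe_mk, OneHom.coe_mk, hz] at this
    simpa [uMat, dMat, Matrix.mul_apply, Fin.sum_univ_four] using this)
  refine ⟨⟨uEl P a b, a, b, rfl⟩, Subtype.ext ?_⟩
  show uEl P a b = (x : ↥(Sz F (2 ^ (m + 1))))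
  rw [hz, hz1, dEl_one, mul_one]

include P hF hm in
theorem local_solvable {M : Subgroup ↥(Sz F (2 ^ (m + 1)))} (h : Local M) : Group.IsSolvable ↥M := by
  rcases h with ⟨k, hk⟩ | ⟨g, hg, hle⟩
  · haveI := borel_solvable P
    exact Group.isSolvable_of_isSolvable_injective
      (f := (((MulAut.conj k).toMonoidHom.comp M.subtype).codRestrict
        (borel (F := F) (e := 2 ^ (m + 1))) (fun x => hk x x.2)))
      (fun a b hab => Subtype.ext ((MulAut.conj k).injective (congrArg Subtype.val hab)))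
  · set C := Subgroup.centralizer {g}
    set N := Subgroup.normalizer (C : Set ↥(Sz F (2 ^ (m + 1))))
    haveI := (oddTI P hF hm).cyclic g hg
    letI := IsCyclic.commGroup (α := ↥C)
    haveI : Group.IsSolvable (MulAut ↥C) := by
      refine Group.isSolvable_of_comm fun a b => ?_
      let ψ := IsCyclic.mulAutMulEquiv ↥C
      exact ψ.injective (by rw [map_mul, map_mul, mul_comm])
    haveI : Group.IsSolvable ↥N := by
      refine Group.isSolvable_of_ker_le_range (Subgroup.inclusion (Subgroup.le_normalizer : C ≤ N))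
        (C.normalizerMonoidHom) fun x hx => ?_
      refine ⟨⟨x, ?_⟩, Subtype.ext rfl⟩
      rw [Subgroup.normalizerMonoidHom_ker, Subgroup.mem_subgroupOf] at hx
      exact Subgroup.mem_centralizer_singleton_iff.2
        (Subgroup.mem_centralizer_iff.1 hx g (mem_centralizer_self g)).symm
    exact Group.isSolvable_of_isSolvable_injective (f := Subgroup.inclusion hle) (Subgroup.inclusion_injective hle)

end CfsgLib.SuzukiGroup
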