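import Cfsg.Agent.Lib.SuzukiOvoid.Equiv
import Cfsg.Agent.Lib.SuzukiGroup.Structure

/-!
# The action of the Suzuki group on its ovoid, in matrix terms
-/

set_option autoImplicit false

open scoped MatrixGroups Matrix Pointwise

namespace CfsgLib.SuzukiOvoid

open CfsgLib.SuzukiGroup

variable {F : Type*} [Field F] {m : ℕ}

lemma mem_ovoid_infinity : Cfsg.suzukiPointInfinity F ∈ Cfsg.suzukiOvoid F m :=
  ⟨_, by simp, rfl, Or.inl rfl⟩

lemma pt_ne_zero (e : ℕ) (x y : F) : pt e x y ≠ 0 := fun h => by simpa [pt] using congrFun h 3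

lemma mem_ovoid_pt (x y : F) : Projectivization.mk F (pt (2 ^ (m + 1)) x y) (pt_ne_zero _ x y) ∈
    Cfsg.suzukiOvoid F m := ⟨_, _, rfl, Or.inr ⟨x, y, rfl⟩⟩

lemma suzukiPointZero_eq : Cfsg.suzukiPointZero F =
    Projectivization.mk F (pt (2 ^ (m + 1)) (0 : F) 0) (pt_ne_zero _ _ _) := by
  unfold Cfsg.suzukiPointZero
  congr 1
  funext i; fin_cases i <;> simp [pt, (Nat.two_pow_pos (m + 1)).ne']

lemma mem_ovoid_zero : Cfsg.suzukiPointZero F ∈ Cfsg.suzukiOvoid F m := by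
  rw [suzukiPointZero_eq (m := m)]; exact mem_ovoid_pt 0 0

lemma infinity_ne_zero : Cfsg.suzukiPointInfinity F ≠ Cfsg.suzukiPointZero F := by
  intro h
  obtain ⟨c, hc⟩ := (Projectivization.mk_eq_mk_iff' F _ _ _ _).1 h
  simpa using congrFun hc 0

lemma mk_pt_ne_infinity (e : ℕ) (x y : F) :
    Projectivization.mk F (pt e x y) (pt_ne_zero _ x y) ≠ Cfsg.suzukiPointInfinity F := by
  intro h
  obtain ⟨c, hc⟩ := (Projectivization.mk_eq_mk_iff' F _ _ _ _).1 h
  simpa [pt] using congrFun hc 3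

lemma mk_pt_inj {e : ℕ} {x y x' y' : F}
    (h : Projectivization.mk F (pt e x y) (pt_ne_zero _ x y) =
      Projectivization.mk F (pt e x' y') (pt_ne_zero _ x' y')) : x = x' ∧ y = y' := by
  obtain ⟨c, hc⟩ := (Projectivization.mk_eq_mk_iff' F _ _ _ _).1 h
  have h3 : c = 1 := by simpa [pt] using congrFun hc 3
  subst h3
  exact ⟨by simpa [pt] using (congrFun hc 2).symm, by simpa [pt] using (congrFun hc 1).symm⟩

lemma mem_ovoid_cases {p : Projectivization F (Fin 4 → F)} (hp : p ∈ Cfsg.suzukiOvoid F m) :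
    p = Cfsg.suzukiPointInfinity F ∨
      ∃ x y : F, p = Projectivization.mk F (pt (2 ^ (m + 1)) x y) (pt_ne_zero _ x y) := by
  obtain ⟨v, hv, rfl, h | ⟨x, y, h⟩⟩ := hp
  · subst h; exact Or.inl rfl
  · subst h; exact Or.inr ⟨x, y, rfl⟩

variable [Fintype F] [CharP F 2] (hm : 1 ≤ m) (hF : Fintype.card F = 2 ^ (2 * m + 1))
  (P : Params F (2 ^ (m + 1)))

lemma smul_mk' (g : Cfsg.Lie.Sz F (2 ^ (m + 1))) (v : Fin 4 → F) (hv : v ≠ 0)
    (hgv : mat g *ᵥ v ≠ 0) :
    (ovoidEquiv hm hF P g : Matrix.SpecialLinearGroup (Fin 4) F) • Projectivization.mk F v hv =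
      Projectivization.mk F (mat g *ᵥ v) hgv := by
  rw [Projectivization.smul_mk]
  rfl

lemma mulVec_ne_zero (g : Cfsg.Lie.Sz F (2 ^ (m + 1))) {v : Fin 4 → F} (hv : v ≠ 0) :
    mat g *ᵥ v ≠ 0 := fun h => hv (by
  have := congrArg (mat g⁻¹ *ᵥ ·) h
  simpa [Matrix.mulVec_mulVec, mat_mul_inv] using this)

lemma smul_mk (g : Cfsg.Lie.Sz F (2 ^ (m + 1))) (v : Fin 4 → F) (hv : v ≠ 0) :
    (ovoidEquiv hm hF P g : Matrix.SpecialLinearGroup (Fin 4) F) • Projectivization.mk F v hv =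
      Projectivization.mk F (mat g *ᵥ v) (mulVec_ne_zero g hv) :=
  smul_mk' hm hF P g v hv _

lemma smul_infinity_eq_iff (g : Cfsg.Lie.Sz F (2 ^ (m + 1))) :
    (ovoidEquiv hm hF P g : Matrix.SpecialLinearGroup (Fin 4) F) • Cfsg.suzukiPointInfinity F =
      Cfsg.suzukiPointInfinity F ↔ g ∈ borel (F := F) (e := 2 ^ (m + 1)) := by
  unfold Cfsg.suzukiPointInfinity
  rw [smul_mk hm hF P, Projectivization.mk_eq_mk_iff', mem_borel]
  constructor
  · rintro ⟨c, hc⟩
    have h1 := congrFun hc 1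
    have h2 := congrFun hc 2
    have h3 := congrFun hc 3
    simp [Matrix.mulVec, dotProduct, Fin.sum_univ_four] at h1 h2 h3
    exact ⟨h1.symm, h2.symm, h3.symm⟩
  · rintro ⟨h1, h2, h3⟩
    refine ⟨mat g 0 0, ?_⟩
    funext i
    fin_cases i <;> simp [Matrix.mulVec, dotProduct, Fin.sum_univ_four, h1, h2, h3]

lemma uEl_smul_zero (a b : F) :
    (ovoidEquiv hm hF P (uEl P a b) : Matrix.SpecialLinearGroup (Fin 4) F) • Cfsg.suzukiPointZero F =
      Projectivization.mk F (pt (2 ^ (m + 1)) a (b + a * P.θ a)) (pt_ne_zero _ _ _) := by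
  unfold Cfsg.suzukiPointZero
  rw [smul_mk hm hF P]
  congr 1
  rw [col_three P a b]
  funext i
  fin_cases i <;> simp [Matrix.mulVec, dotProduct, Fin.sum_univ_four]

lemma exists_uEl_smul_zero (x y : F) : ∃ a b : F,
    (ovoidEquiv hm hF P (uEl P a b) : Matrix.SpecialLinearGroup (Fin 4) F) • Cfsg.suzukiPointZero F =
      Projectivization.mk F (pt (2 ^ (m + 1)) x y) (pt_ne_zero _ _ _) := by
  refine ⟨x, y + x * P.θ x, ?_⟩
  rw [uEl_smul_zero]
  congr 2
  rw [add_assoc, CharTwo.add_self_eq_zero, add_zero]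

lemma dEl_smul_zero (x : Fˣ) :
    (ovoidEquiv hm hF P (dEl P x) : Matrix.SpecialLinearGroup (Fin 4) F) • Cfsg.suzukiPointZero F =
      Cfsg.suzukiPointZero F := by
  unfold Cfsg.suzukiPointZero
  rw [smul_mk hm hF P, Projectivization.mk_eq_mk_iff']
  exact ⟨(x : F)⁻¹, by funext i; fin_cases i <;> simp [Matrix.mulVec, dotProduct, Fin.sum_univ_four, dMat]⟩

lemma jEl_smul_infinity :
    (ovoidEquiv hm hF P (jEl P) : Matrix.SpecialLinearGroup (Fin 4) F) • Cfsg.suzukiPointInfinity F =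
      Cfsg.suzukiPointZero F := by
  unfold Cfsg.suzukiPointInfinity Cfsg.suzukiPointZero
  rw [smul_mk hm hF P, Projectivization.mk_eq_mk_iff']
  exact ⟨1, by funext i; fin_cases i <;> simp [Matrix.mulVec, dotProduct, Fin.sum_univ_four, jMat]⟩

lemma mem_torus_iff_fix (g : Cfsg.Lie.Sz F (2 ^ (m + 1))) :
    g ∈ torus P ↔
      (ovoidEquiv hm hF P g : Matrix.SpecialLinearGroup (Fin 4) F) • Cfsg.suzukiPointInfinity F =
          Cfsg.suzukiPointInfinity F ∧
        (ovoidEquiv hm hF P g : Matrix.SpecialLinearGroup (Fin 4) F) • Cfsg.suzukiPointZero F =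
          Cfsg.suzukiPointZero F := by
  constructor
  · intro hg
    obtain ⟨x, rfl⟩ := (mem_torus P).1 hg
    exact ⟨(smul_infinity_eq_iff hm hF P _).2 (dEl_mem_borel P x), dEl_smul_zero hm hF P x⟩
  · rintro ⟨h1, h2⟩
    obtain ⟨a, b, x, rfl⟩ := borel_form P ((smul_infinity_eq_iff hm hF P g).1 h1)
    rw [map_mul, Subgroup.coe_mul, mul_smul, dEl_smul_zero, uEl_smul_zero,
      suzukiPointZero_eq (m := m)] at h2
    obtain ⟨ha, hb⟩ := mk_pt_inj h2
    subst ha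
    rw [zero_mul, add_zero] at hb
    rw [hb, uEl_zero, one_mul]
    exact dEl_mem_torus P x

include hm hF P in
lemma exists_smul_infinity {p : Projectivization F (Fin 4 → F)} (hp : p ∈ Cfsg.suzukiOvoid F m) :
    ∃ g : Cfsg.Sz F m,
      (g : Matrix.SpecialLinearGroup (Fin 4) F) • Cfsg.suzukiPointInfinity F = p := by
  rcases mem_ovoid_cases hp with rfl | ⟨x, y, rfl⟩
  · exact ⟨1, by simp⟩
  · obtain ⟨a, b, h⟩ := exists_uEl_smul_zero hm hF P x y
    refine ⟨ovoidEquiv hm hF P (uEl P a b) * ovoidEquiv hm hF P (jEl P), ?_⟩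
    rw [Subgroup.coe_mul, mul_smul, jEl_smul_infinity, h]

include hm hF P in
/-- Any two distinct points of the ovoid are the images of the two base points. -/
lemma exists_smul_pair {p q : Projectivization F (Fin 4 → F)} (hp : p ∈ Cfsg.suzukiOvoid F m)
    (hq : q ∈ Cfsg.suzukiOvoid F m) (hne : p ≠ q) :
    ∃ g : Cfsg.Sz F m,
      (g : Matrix.SpecialLinearGroup (Fin 4) F) • Cfsg.suzukiPointInfinity F = p ∧
        (g : Matrix.SpecialLinearGroup (Fin 4) F) • Cfsg.suzukiPointZero F = q := by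
  obtain ⟨g, rfl⟩ := exists_smul_infinity hm hF P hp
  have hq' : (g : Matrix.SpecialLinearGroup (Fin 4) F)⁻¹ • q ∈ Cfsg.suzukiOvoid F m := by
    have h := (g⁻¹).2
    rw [MulAction.mem_stabilizer_iff] at h
    rw [← h]
    exact Set.smul_mem_smul_set hq
  rcases mem_ovoid_cases hq' with h | ⟨x, y, h⟩
  · exact absurd (inv_smul_eq_iff.1 h).symm hne
  · obtain ⟨a, b, hab⟩ := exists_uEl_smul_zero hm hF P x y
    refine ⟨g * ovoidEquiv hm hF P (uEl P a b), ?_, ?_⟩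
    · rw [Subgroup.coe_mul, mul_smul, (smul_infinity_eq_iff hm hF P _).2 (uEl_mem_borel P a b)]
    · rw [Subgroup.coe_mul, mul_smul, hab, ← h, smul_inv_smul]

include hm hF in
/-- Non-trivial elements fix at most two points. -/
lemma eq_one_of_three_fixed (g : Cfsg.Sz F m) {p q r : Projectivization F (Fin 4 → F)}
    (hp : p ∈ Cfsg.suzukiOvoid F m) (hq : q ∈ Cfsg.suzukiOvoid F m) (hr : r ∈ Cfsg.suzukiOvoid F m)
    (hpq : p ≠ q) (hpr : p ≠ r) (hqr : q ≠ r)
    (gp : (g : Matrix.SpecialLinearGroup (Fin 4) F) • p = p)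
    (gq : (g : Matrix.SpecialLinearGroup (Fin 4) F) • q = q)
    (gr : (g : Matrix.SpecialLinearGroup (Fin 4) F) • r = r) : g = 1 := by
  obtain ⟨_, ⟨P⟩⟩ := CfsgLib.SuzukiGroup.exists_params hF
  obtain ⟨c, rfl, rfl⟩ := exists_smul_pair hm hF P hp hq hpq
  set g' := c⁻¹ * g * c with hg'
  have conv : ∀ z : Projectivization F (Fin 4 → F), (g : Matrix.SpecialLinearGroup (Fin 4) F) • ((c : Matrix.SpecialLinearGroup (Fin 4) F) • z) =
      (c : Matrix.SpecialLinearGroup (Fin 4) F) • z →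
      (g' : Matrix.SpecialLinearGroup (Fin 4) F) • z = z := by
    intro z hz
    rw [hg', Subgroup.coe_mul, Subgroup.coe_mul, mul_smul, mul_smul, hz, Subgroup.coe_inv, inv_smul_smul]
  obtain ⟨k, hk⟩ := (ovoidEquiv hm hF P).surjective g'
  have h1 := conv _ gp
  have h2 := conv _ gq
  have h3 := conv ((c : Matrix.SpecialLinearGroup (Fin 4) F)⁻¹ • r) (by rw [smul_inv_smul]; exact gr)
  rw [← hk] at h1 h2 h3
  obtain ⟨t, rfl⟩ := (mem_torus P).1 ((mem_torus_iff_fix hm hF P k).2 ⟨h1, h2⟩)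
  have hr' : (c : Matrix.SpecialLinearGroup (Fin 4) F)⁻¹ • r ∈ Cfsg.suzukiOvoid F m := by
    have h := (c⁻¹).2
    rw [MulAction.mem_stabilizer_iff] at h
    rw [← h]
    exact Set.smul_mem_smul_set hr
  suffices ht : t = 1 by
    rw [ht, dEl_one, map_one] at hk
    have : c⁻¹ * g * c = 1 := by rw [← hg', ← hk]
    calc g = c * (c⁻¹ * g * c) * c⁻¹ := by group
      _ = 1 := by rw [this]; group
  rcases mem_ovoid_cases hr' with h | ⟨x, y, h⟩
  · exact absurd (inv_smul_eq_iff.1 h).symm hpr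
  obtain ⟨a, b, hab⟩ := exists_uEl_smul_zero hm hF P x y
  rw [h, ← hab, ← mul_smul, ← Subgroup.coe_mul, ← map_mul, dEl_mul_uEl, map_mul, Subgroup.coe_mul,
    mul_smul, dEl_smul_zero, uEl_smul_zero, uEl_smul_zero] at h3
  obtain ⟨e1, e2⟩ := mk_pt_inj h3
  by_contra ht
  have ha : a = 0 := by
    by_contra ha
    exact ht (Units.ext (scale_eq_one P t.ne_zero (mul_right_cancel₀ ha (e1.trans (one_mul a).symm))))
  subst ha
  simp only [mul_zero, zero_mul, add_zero] at e2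
  have hb : b = 0 := by
    by_contra hb
    exact ht (Units.ext ((theta_eq_one P).1 (mul_right_cancel₀ hb (e2.trans (one_mul b).symm))))
  subst hb
  rw [uEl_zero, map_one, OneMemClass.coe_one, one_smul, ← h] at hab
  exact hqr (inv_smul_eq_iff.1 hab.symm).symm

/-- Transport of the normaliser of a Sylow subgroup. -/
lemma exists_conj_map_unip (S : Sylow 2 ↥(Cfsg.Sz F m)) :
    ∃ c : ↥(Cfsg.Sz F m), (S : Subgroup ↥(Cfsg.Sz F m)) =
      (unip P).map ((MulAut.conj c).toMonoidHom.comp (ovoidEquiv hm hF P).toMonoidHom) := by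
  haveI : Fact (Nat.Prime 2) := ⟨Nat.prime_two⟩
  let S₀ : Sylow 2 ↥(Cfsg.Sz F m) := (sylowTwo P).mapSurjective (f := (ovoidEquiv hm hF P).toMonoidHom)
    (ovoidEquiv hm hF P).surjective
  obtain ⟨c, hc⟩ := MulAction.exists_smul_eq ↥(Cfsg.Sz F m) S₀ S
  refine ⟨c, ?_⟩
  rw [← hc, Sylow.coe_subgroup_smul, ← Subgroup.map_map]
  rfl

end CfsgLib.SuzukiOvoid
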