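import Cfsg.Prelude.Def_LieExceptional
import Cfsg.Agent.Lib.SuzukiGroup.Group

/-!
# The stabiliser of the Suzuki–Tits ovoid is the Suzuki group

`ovoidEquiv : Cfsg.Lie.Sz F (2 ^ (m + 1)) ≃* Cfsg.Sz F m`; corresponding elements have the same matrix.
-/

set_option autoImplicit false

open scoped MatrixGroups Matrix

namespace CfsgLib.SuzukiOvoid

open CfsgLib.SuzukiGroup Polynomial

variable {F : Type*} [Field F] {m : ℕ}

/-- The affine point of the ovoid with parameters `x, y`. -/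
def pt (e : ℕ) (x y : F) : Fin 4 → F := ![x * y + x ^ (e + 2) + y ^ e, y, x, 1]

/-- Vectors spanning points of the ovoid. -/
def OV (e : ℕ) (v : Fin 4 → F) : Prop :=
  ∃ c : F, c ≠ 0 ∧ (v = c • ![1, 0, 0, 0] ∨ ∃ x y : F, v = c • pt e x y)

lemma mk_mem_ovoid {v : Fin 4 → F} (hv : v ≠ 0) :
    Projectivization.mk F v hv ∈ Cfsg.suzukiOvoid F m ↔ OV (2 ^ (m + 1)) v := by
  constructor
  · rintro ⟨w, hw, heq, hor⟩
    obtain ⟨c, hc⟩ := (Projectivization.mk_eq_mk_iff F _ _ hv hw).1 heq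
    refine ⟨c, c.ne_zero, ?_⟩
    rcases hor with h | ⟨x, y, h⟩
    · left; rw [← hc, h]; rfl
    · right; refine ⟨x, y, ?_⟩; rw [← hc, h]; rfl
  · rintro ⟨c, hc, h | ⟨x, y, h⟩⟩
    · exact ⟨_, fun h0 => hv (by rw [h, h0, smul_zero]),
        (Projectivization.mk_eq_mk_iff' F _ _ hv _).2 ⟨c, h.symm⟩, Or.inl rfl⟩
    · exact ⟨_, fun h0 => hv (by rw [h, h0, smul_zero]),
        (Projectivization.mk_eq_mk_iff' F _ _ hv _).2 ⟨c, h.symm⟩, Or.inr ⟨x, y, rfl⟩⟩

lemma mem_stab_iff (g : Matrix.SpecialLinearGroup (Fin 4) F) [Finite F] :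
    g ∈ Cfsg.Sz F m ↔ ∀ v : Fin 4 → F, OV (2 ^ (m + 1)) v →
      OV (2 ^ (m + 1)) ((g : Matrix (Fin 4) (Fin 4) F) *ᵥ v) := by
  have hfin : (Cfsg.suzukiOvoid F m).Finite := Set.toFinite _
  rw [MulAction.mem_stabilizer_set_iff_smul_set_subset hfin]
  constructor
  · intro h v hv
    have hv0 : v ≠ 0 := by
      obtain ⟨c, hc, h | ⟨x, y, h⟩⟩ := hv <;> subst h <;> intro h0
      · exact hc (by simpa using congrFun h0 0)
      · exact hc (by simpa [pt] using congrFun h0 3)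
    have hmem := h (Set.smul_mem_smul_set (a := g) ((mk_mem_ovoid hv0).2 hv))
    rw [Projectivization.smul_mk] at hmem
    exact (mk_mem_ovoid _).1 hmem
  · rintro h _ ⟨P, hP, rfl⟩
    induction P using Projectivization.ind with
    | h v hv =>
      simp only [Projectivization.smul_mk]
      exact (mk_mem_ovoid _).2 (h v ((mk_mem_ovoid hv).1 hP))

variable [Fintype F] [CharP F 2] {e : ℕ} (P : Params F e)

include P in
lemma col_three (a b : F) : pt e a (b + a * P.θ a) = fun i => uMat P.θ a b i 3 := by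
  have h2 : ∀ z : F, z ^ e = P.θ z := fun z => (P.pow_eq z).symm
  funext i
  fin_cases i <;> simp [pt, uMat, pow_add, h2, map_add, map_mul, P.sq]
  grind

include P in
/-- The image of the point at infinity lies on the ovoid. -/
lemma col_zero (g : Cfsg.Lie.Sz F e) : OV e (fun i => mat g i 0) := by
  rcases first_col P.sq (rel_mat P g) with ⟨h1, h2, h3⟩ | ⟨h4, a, b, c2, c1, c0⟩
  · refine ⟨mat g 0 0, fun h0 => ?_, Or.inl ?_⟩
    · have e0 := congrFun (congrFun (mat_mul_inv g) 0) 0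
      simp [Matrix.mul_apply, Fin.sum_univ_four, h0, h1, h2, h3] at e0
    · funext i; fin_cases i <;> simp [h1, h2, h3]
  · refine ⟨mat g 3 0, h4, Or.inr ⟨a, b + a * P.θ a, ?_⟩⟩
    rw [col_three P]
    funext i; fin_cases i <;> simp [c0, c1, c2]
    simp [uMat]

include P in
lemma exists_of_OV {v : Fin 4 → F} (hv : OV e v) :
    ∃ (h : Cfsg.Lie.Sz F e) (c : F), c ≠ 0 ∧ v = c • fun i => mat h i 0 := by
  obtain ⟨c, hc, h | ⟨x, y, h⟩⟩ := hv
  · refine ⟨1, c, hc, ?_⟩
    rw [h]; funext i; fin_cases i <;> simp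
  · refine ⟨uEl P x (y + x * P.θ x) * jEl P, c, hc, ?_⟩
    obtain ⟨y0, y1, y2, y3⟩ := uj_col P x (y + x * P.θ x)
    have hy : (y + x * P.θ x) + x * P.θ x = y := by rw [add_assoc, CharTwo.add_self_eq_zero, add_zero]
    have h' := col_three P x (y + x * P.θ x)
    rw [hy] at h'
    rw [h, h']
    congr 1
    funext i
    fin_cases i
    exacts [y0.symm, y1.symm, y2.symm,
      (show uMat P.θ x (y + x * P.θ x) 3 3 = (1 : F) by simp [uMat]).trans y3.symm]

include P in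
lemma preserves (g : Cfsg.Lie.Sz F e) {v : Fin 4 → F} (hv : OV e v) : OV e (mat g *ᵥ v) := by
  obtain ⟨h, c, hc, rfl⟩ := exists_of_OV P hv
  obtain ⟨c', hc', hor⟩ := col_zero P (g * h)
  have heq : mat g *ᵥ (c • fun i => mat h i 0) = c • fun i => mat (g * h) i 0 := by
    rw [Matrix.mulVec_smul]
    funext i
    simp [Matrix.mulVec, dotProduct, Matrix.mul_apply]
  refine ⟨c * c', mul_ne_zero hc hc', ?_⟩
  rw [heq]
  rcases hor with h1 | ⟨x, y, h1⟩
  · left; rw [h1, smul_smul]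
  · right; exact ⟨x, y, by rw [h1, smul_smul]⟩

include P in
lemma det_eq_one (hq : 2 < Fintype.card F) (g : Cfsg.Lie.Sz F e) : (mat g).det = 1 := by
  let d : Cfsg.Lie.Sz F e →* Fˣ := Matrix.GeneralLinearGroup.det.comp (Cfsg.Lie.Sz F e).subtype
  have hker : commutator (Cfsg.Lie.Sz F e) ≤ d.ker := Abelianization.commutator_subset_ker d
  rw [commutator_eq_top P hq] at hker
  exact congrArg Units.val (MonoidHom.mem_ker.1 (hker (Subgroup.mem_top g)))

omit [Fintype F] [CharP F 2] in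
lemma two_pow_bounds (hm : 1 ≤ m) :
    4 ≤ 2 ^ (m + 1) ∧ 2 ^ (m + 1) + 2 < 2 ^ (2 * m + 1) ∧ 2 < 2 ^ (2 * m + 1) := by
  have h1 : 4 ≤ 2 ^ (m + 1) :=
    calc 4 = 2 ^ 2 := rfl
      _ ≤ 2 ^ (m + 1) := Nat.pow_le_pow_right (by norm_num) (by omega)
  have h2 : 2 * 2 ^ (m + 1) ≤ 2 ^ (2 * m + 1) := by
    rw [← pow_succ']; exact Nat.pow_le_pow_right (by norm_num) (by omega)
  omega

/-- A diagonal form for the stabiliser of two points. -/
lemma diag_form (hm : 1 ≤ m) (hF : Fintype.card F = 2 ^ (2 * m + 1)) {s : ℕ} (hs : s = 2 ^ (m + 1)) (P : Params F s)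
    (M : Matrix (Fin 4) (Fin 4) F) (hdet : M.det = 1)
    (hM : ∀ v : Fin 4 → F, OV s v → OV s (M *ᵥ v))
    (h10 : M 1 0 = 0) (h20 : M 2 0 = 0) (h30 : M 3 0 = 0)
    (h03 : M 0 3 = 0) (h13 : M 1 3 = 0) (h23 : M 2 3 = 0) : ∃ u : Fˣ, M = dMat P.θ (u : F) := by
  obtain ⟨hs4, hslt, -⟩ := two_pow_bounds hm
  rw [← hs] at hs4 hslt
  have hne : ∀ v : Fin 4 → F, M *ᵥ v = 0 → v = 0 := fun v h =>
    Matrix.eq_zero_of_mulVec_eq_zero (by rw [hdet]; exact one_ne_zero) h
  have h00 : M 0 0 ≠ 0 := by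
    intro h
    have := hne ![1, 0, 0, 0] (by funext i; fin_cases i <;> simp [Matrix.mulVec, dotProduct, Fin.sum_univ_four, h, h10, h20, h30])
    simpa using congrFun this 0
  -- affine points go to affine points
  have key : ∀ x y : F, ∃ x' y' c : F, c ≠ 0 ∧ M *ᵥ pt s x y = c • pt s x' y' := by
    intro x y
    obtain ⟨c, hc, h | ⟨x', y', h⟩⟩ := hM _ ⟨1, one_ne_zero, Or.inr ⟨x, y, (one_smul _ _).symm⟩⟩
    · exfalso
      have h' : M *ᵥ (pt s x y - (c / M 0 0) • ![1, 0, 0, 0]) = 0 := by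
        rw [Matrix.mulVec_sub, Matrix.mulVec_smul, h]
        funext i
        fin_cases i <;> simp [Matrix.mulVec, dotProduct, Fin.sum_univ_four, h10, h20, h30, h00]
      simpa [pt] using congrFun (hne _ h') 3
    · exact ⟨x', y', c, hc, h⟩
  have hw : ∀ x y : F, M 3 1 * y + M 3 2 * x + M 3 3 ≠ 0 := by
    intro x y
    obtain ⟨x', y', c, hc, h⟩ := key x y
    have := congrFun h 3
    simp [pt, Matrix.mulVec, dotProduct, Fin.sum_univ_four, h30] at this
    rwa [this]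
  have h31 : M 3 1 = 0 := by
    by_contra h
    exact hw 0 (-M 3 3 / M 3 1) (by field_simp; ring)
  have h32 : M 3 2 = 0 := by
    by_contra h
    exact hw (-M 3 3 / M 3 2) 0 (by field_simp; ring)
  have h33 : M 3 3 ≠ 0 := by simpa [h31, h32] using hw 0 0
  set l := M 0 0 / M 3 3 with hl
  set p := M 0 1 / M 3 3 with hp
  set r := M 0 2 / M 3 3 with hr
  set A := M 1 1 / M 3 3 with hA
  set B := M 1 2 / M 3 3 with hB
  set C := M 2 1 / M 3 3 with hC
  set D := M 2 2 / M 3 3 with hD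
  have eqn : ∀ x y : F, l * (x * y + x ^ (s + 2) + y ^ s) + p * y + r * x =
      (C * y + D * x) * (A * y + B * x) + (C * y + D * x) ^ (s + 2) + (A * y + B * x) ^ s := by
    intro x y
    obtain ⟨x', y', c, hc, h⟩ := key x y
    have e3 := congrFun h 3
    have e2 := congrFun h 2
    have e1 := congrFun h 1
    have e0 := congrFun h 0
    simp [pt, Matrix.mulVec, dotProduct, Fin.sum_univ_four, h10, h20, h30, h03, h13, h23, h31, h32] at e0 e1 e2 e3
    have ex : C * y + D * x = x' := by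
      rw [hC, hD]; field_simp; linear_combination e2 - x' * e3
    have ey : A * y + B * x = y' := by
      rw [hA, hB]; field_simp; linear_combination e1 - y' * e3
    rw [ex, ey, hl, hp, hr]
    field_simp
    linear_combination e0 - (x' * y' + x' ^ (s + 2) + y' ^ s) * e3
  have vanish : ∀ a b c d : F, (∀ x : F, a * x ^ (s + 2) + b * x ^ s + c * x ^ 2 + d * x = 0) →
      a = 0 ∧ b = 0 ∧ c = 0 ∧ d = 0 := by
    intro a b c d h
    set Pl : F[X] := Polynomial.C a * X ^ (s + 2) + Polynomial.C b * X ^ s + Polynomial.C c * X ^ 2 + Polynomial.C d * X with hPl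
    have hdeg : Pl.natDegree ≤ s + 2 := by
      rw [Polynomial.natDegree_le_iff_coeff_eq_zero]
      intro N hN
      simp only [hPl, Polynomial.coeff_add, Polynomial.coeff_C_mul_X_pow, Polynomial.coeff_C_mul_X]
      rw [if_neg (by omega), if_neg (by omega), if_neg (by omega), if_neg (by omega)]
      simp
    have hz : Pl = 0 := Polynomial.eq_zero_of_natDegree_lt_card_of_eval_eq_zero' Pl Finset.univ
      (fun x _ => by simpa [hPl] using h x) (by rw [Finset.card_univ, hF]; omega)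
    have c1 := congrArg (fun q : F[X] => q.coeff (s + 2)) hz
    have c2 := congrArg (fun q : F[X] => q.coeff s) hz
    have c3 := congrArg (fun q : F[X] => q.coeff 2) hz
    have c4 := congrArg (fun q : F[X] => q.coeff 1) hz
    simp only [hPl, Polynomial.coeff_add, Polynomial.coeff_C_mul_X_pow, Polynomial.coeff_C_mul_X,
      Polynomial.coeff_zero] at c1 c2 c3 c4
    simp [show 1 ≠ s + 2 by omega, show s ≠ 1 by omega, show 2 ≠ s by omega, show s + 2 ≠ 1 by omega,
      show s + 2 ≠ 2 by omega, show 1 ≠ s by omega, show s ≠ 2 by omega, show 2 ≠ s + 2 by omega,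
      show s ≠ s + 2 by omega, show s + 2 ≠ s by omega, show s ≠ 0 by omega] at c1 c2 c3 c4
    exact ⟨c1, c2, c3, c4⟩
  have hz2 : (2 : F) = 0 := CharTwo.two_eq_zero
  obtain ⟨v1, v2, v3, v4⟩ := vanish (l + D ^ (s + 2)) (B ^ s) (D * B) r (fun x => by
    have := eqn x 0
    simp [mul_pow, zero_pow (show s ≠ 0 by omega)] at this
    grind)
  obtain ⟨w1, w2, w3, w4⟩ := vanish (C ^ (s + 2)) (l + A ^ s) (C * A) p (fun y => by
    have := eqn 0 y
    simp [mul_pow, zero_pow (show s ≠ 0 by omega), zero_pow (show s + 2 ≠ 0 by omega)] at this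
    grind)
  have hB0 : B = 0 := (pow_eq_zero_iff (show s ≠ 0 by omega)).1 v2
  have hC0 : C = 0 := (pow_eq_zero_iff (show s + 2 ≠ 0 by omega)).1 w1
  have hlA : l = A ^ s := CharTwo.add_eq_zero.1 w2
  have hlAD : l = D * A := by
    have := eqn 1 1
    have hlD : l = D ^ (s + 2) := CharTwo.add_eq_zero.1 v1
    simp [hB0, hC0, v4, w4, mul_add] at this
    grind
  have hl0 : l ≠ 0 := div_ne_zero h00 h33
  obtain ⟨x, hx⟩ : IsSquare l := FiniteField.isSquare_of_char_two ((CharP.ringChar_of_prime_eq_zero Nat.prime_two hz2)) l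
  have hx0 : x ≠ 0 := fun h => hl0 (by rw [hx, h, mul_zero])
  have hθA : P.θ x = A := by
    apply CharTwo.sq_injective (R := F)
    apply CharTwo.sq_injective (R := F)
    show (P.θ x ^ 2) ^ 2 = (A ^ 2) ^ 2
    have h1 : P.θ (P.θ A) = A ^ 2 := P.sq A
    have h2 : P.θ A = x * x := by rw [← hx, hlA, P.pow_eq]
    have h3 : P.θ x * P.θ x = A ^ 2 := by rw [← map_mul, ← h2, h1]
    rw [pow_two (P.θ x), h3]
  have hθ0 : P.θ x ≠ 0 := by simpa using hx0
  have hD' : D = x ^ 2 / P.θ x := by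
    rw [eq_div_iff hθ0, hθA, ← hlAD, hx, pow_two]
  set k := M 3 3 with hk
  have hMeq : M = (k * x) • dMat P.θ x := by
    have e0 : M 0 0 = k * x ^ 2 := by rw [pow_two, ← hx, hl, mul_div_cancel₀ _ h33]
    have e1 : M 1 1 = k * P.θ x := by rw [hθA, hA, mul_div_cancel₀ _ h33]
    have e2 : M 2 2 = k * (x ^ 2 / P.θ x) := by rw [← hD', hD, mul_div_cancel₀ _ h33]
    have z1 : M 0 1 = 0 := by simpa [hp, h33] using w4
    have z2 : M 0 2 = 0 := by simpa [hr, h33] using v4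
    have z3 : M 1 2 = 0 := by simpa [hB, h33] using hB0
    have z4 : M 2 1 = 0 := by simpa [hC, h33] using hC0
    ext i j
    fin_cases i <;> fin_cases j <;>
      simp [dMat, h10, h20, h30, h03, h13, h23, h31, h32, z1, z2, z3, z4, e0, e1, e2] <;> field_simp
    rw [hk]
  have hd1 : (dMat P.θ x).det = 1 := by
    have := det_eq_one P (by rw [hF]; exact (two_pow_bounds hm).2.2) (dEl P (Units.mk0 x hx0))
    simpa using this
  have hk4 : (k * x) ^ 4 = 1 := by
    rw [hMeq, Matrix.det_smul, hd1, mul_one, Fintype.card_fin] at hdet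
    exact hdet
  have hk1 : k * x = 1 := by
    apply CharTwo.sq_injective (R := F)
    apply CharTwo.sq_injective (R := F)
    show ((k * x) ^ 2) ^ 2 = ((1 : F) ^ 2) ^ 2
    rw [← pow_mul, hk4]; simp
  exact ⟨Units.mk0 x hx0, by rw [hMeq, hk1, one_smul]; rfl⟩

variable (hm : 1 ≤ m) (hF : Fintype.card F = 2 ^ (2 * m + 1))

include hm hF in
lemma card_gt_two : 2 < Fintype.card F := by rw [hF]; exact (two_pow_bounds hm).2.2

/-- The map from the matrix group to the stabiliser of the ovoid. -/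
def toOvoid (P : Params F (2 ^ (m + 1))) : Cfsg.Lie.Sz F (2 ^ (m + 1)) →* Cfsg.Sz F m where
  toFun g := ⟨⟨mat g, det_eq_one P (card_gt_two hm hF) g⟩, (mem_stab_iff _).2 fun _ hv => preserves P g hv⟩
  map_one' := Subtype.ext (Subtype.ext rfl)
  map_mul' g h := Subtype.ext (Subtype.ext rfl)

lemma toOvoid_bijective (P : Params F (2 ^ (m + 1))) : Function.Bijective (toOvoid hm hF P) := by
  refine ⟨fun g h hgh => mat_ext (congrArg (fun z : Cfsg.Sz F m =>
    ((z : Matrix.SpecialLinearGroup (Fin 4) F) : Matrix (Fin 4) (Fin 4) F)) hgh), fun g => ?_⟩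
  have hg := (mem_stab_iff g.1).1 g.2
  -- move the image of the point at infinity back
  obtain ⟨h, c, hc, hcol⟩ := exists_of_OV P (hg _ ⟨1, one_ne_zero, Or.inl (one_smul _ _).symm⟩)
  set g1 : Cfsg.Sz F m := (toOvoid hm hF P h)⁻¹ * g with hg1
  set M1 : Matrix (Fin 4) (Fin 4) F := ((g1 : Matrix.SpecialLinearGroup (Fin 4) F) : Matrix (Fin 4) (Fin 4) F) with hM1
  have hM1eq : M1 = mat h⁻¹ * ((g : Matrix.SpecialLinearGroup (Fin 4) F) : Matrix (Fin 4) (Fin 4) F) := by
    rw [hM1, hg1, ← map_inv]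
    rfl
  have hcol0 : ∀ i, M1 i 0 = c * (1 : Matrix (Fin 4) (Fin 4) F) i 0 := by
    intro i
    have hg0 : ∀ k, ((g : Matrix.SpecialLinearGroup (Fin 4) F) : Matrix (Fin 4) (Fin 4) F) k 0 = c * mat h k 0 := by
      intro k
      have := congrFun hcol k
      simpa [Matrix.mulVec, dotProduct, Fin.sum_univ_four] using this
    rw [← mat_mul_inv h, hM1eq]
    simp [Matrix.mul_apply, hg0, Finset.mul_sum]
    congr 1
    funext k
    ring
  have hM1det : M1.det = 1 := g1.1.2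
  obtain ⟨c', hc', h3 | ⟨x, y, h3⟩⟩ := (mem_stab_iff g1.1).1 g1.2 (pt (2 ^ (m + 1)) 0 0)
      ⟨1, one_ne_zero, Or.inr ⟨0, 0, (one_smul _ _).symm⟩⟩
  · exfalso
    have h0 : M1 *ᵥ (pt (2 ^ (m + 1)) 0 0 - (c' / c) • ![1, 0, 0, 0]) = 0 := by
      rw [Matrix.mulVec_sub, Matrix.mulVec_smul, h3]
      funext i
      fin_cases i <;> simp [Matrix.mulVec, dotProduct, Fin.sum_univ_four, hcol0, hc]
    have := congrFun (Matrix.eq_zero_of_mulVec_eq_zero (by rw [hM1det]; exact one_ne_zero) h0) 3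
    simp [pt] at this
  have hpt0 : pt (2 ^ (m + 1)) (0 : F) 0 = ![0, 0, 0, 1] := by
    funext i; fin_cases i <;> simp [pt, (Nat.two_pow_pos (m + 1)).ne']
  have hcol3 : ∀ i, M1 i 3 = c' * pt (2 ^ (m + 1)) x y i := by
    intro i
    have := congrFun h3 i
    rw [hpt0] at this
    simpa [Matrix.mulVec, dotProduct, Fin.sum_univ_four] using this
  set u := uEl P x (y + x * P.θ x) with hu
  have hy : (y + x * P.θ x) + x * P.θ x = y := by rw [add_assoc, CharTwo.add_self_eq_zero, add_zero]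
  have hu3 : ∀ i, pt (2 ^ (m + 1)) x y i = mat u i 3 := by
    intro i
    have := congrFun (col_three P x (y + x * P.θ x)) i
    rwa [hy] at this
  set M2 : Matrix (Fin 4) (Fin 4) F := mat u⁻¹ * M1 with hM2
  have hM2g : M2 = (((toOvoid hm hF P u)⁻¹ * g1 : Cfsg.Sz F m) : Matrix.SpecialLinearGroup (Fin 4) F).1 := by
    rw [hM2, hM1, ← map_inv]
    rfl
  have hu0 : ∀ i, (1 : Matrix (Fin 4) (Fin 4) F) i 0 = mat u i 0 := by
    intro i
    rw [hu, mat_uEl]
    fin_cases i <;> simp [uMat, Matrix.one_apply]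
  have hone : ∀ i j, (mat u⁻¹ * mat u) i j = (1 : Matrix (Fin 4) (Fin 4) F) i j := fun i j => by rw [mat_mul_inv]
  have c0 : ∀ i, M2 i 0 = c * (1 : Matrix (Fin 4) (Fin 4) F) i 0 := by
    intro i
    rw [hM2, ← hone, Matrix.mul_apply, Matrix.mul_apply, Finset.mul_sum]
    exact Finset.sum_congr rfl fun k _ => by rw [hcol0, hu0]; ring
  have c3 : ∀ i, M2 i 3 = c' * (1 : Matrix (Fin 4) (Fin 4) F) i 3 := by
    intro i
    rw [hM2, ← hone, Matrix.mul_apply, Matrix.mul_apply, Finset.mul_sum]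
    exact Finset.sum_congr rfl fun k _ => by rw [hcol3, hu3]; ring
  obtain ⟨w, hw⟩ := diag_form hm hF rfl P M2 (hM2g ▸ ((toOvoid hm hF P u)⁻¹ * g1).1.2)
    (fun v hv => hM2g ▸ (mem_stab_iff _).1 ((toOvoid hm hF P u)⁻¹ * g1).2 v hv)
    (by simp [c0]) (by simp [c0]) (by simp [c0]) (by simp [c3]) (by simp [c3]) (by simp [c3])
  refine ⟨h * u * dEl P w, ?_⟩
  have e : toOvoid hm hF P (dEl P w) = (toOvoid hm hF P u)⁻¹ * g1 :=
    Subtype.ext (Subtype.ext (by rw [← hM2g, hw]; rfl))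
  rw [map_mul, map_mul, e, hg1]
  group

/-- The matrix Suzuki group is the stabiliser of the ovoid. -/
noncomputable def ovoidEquiv (P : Params F (2 ^ (m + 1))) : Cfsg.Lie.Sz F (2 ^ (m + 1)) ≃* Cfsg.Sz F m :=
  MulEquiv.ofBijective (toOvoid hm hF P) (toOvoid_bijective hm hF P)

lemma ovoidEquiv_val (P : Params F (2 ^ (m + 1))) (g : Cfsg.Lie.Sz F (2 ^ (m + 1))) :
    ((ovoidEquiv hm hF P g : Matrix.SpecialLinearGroup (Fin 4) F) : Matrix (Fin 4) (Fin 4) F) = mat g := rfl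

end CfsgLib.SuzukiOvoid

namespace CfsgLib.SuzukiOvoid

/-- Existence form of the identification. -/
theorem nonempty_equiv {F : Type*} [Field F] [Fintype F] {m : ℕ} (hm : 1 ≤ m)
    (hF : Fintype.card F = 2 ^ (2 * m + 1)) : Nonempty (Cfsg.Lie.Sz F (2 ^ (m + 1)) ≃* Cfsg.Sz F m) := by
  obtain ⟨h2, ⟨P⟩⟩ := CfsgLib.SuzukiGroup.exists_params hF
  exact ⟨ovoidEquiv hm hF P⟩

end CfsgLib.SuzukiOvoid
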